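import Groth.Prelude
import Groth.Agent.Lib.FEt21.NormalUnramified
import Groth.Agent.Lib.HeightOneHull5.Criteria
import Groth.Agent.Lib.EtBasicB.LocalRings
import Groth.Agent.Lib.NormalSerre.AssPrincipal
import Mathlib.RingTheory.Etale.StandardEtale
import Mathlib.FieldTheory.IsSepClosed

/-!
# Roots of fractions with divisible divisor over a normal local ring with purity
-/

set_option autoImplicit false
set_option linter.style.haveILetI false
set_option backward.isDefEq.respectTransparency.types false

universe u

open Polynomial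

namespace GrothLib.ClTors21

variable (A : Type u) [CommRing A] [IsDomain A] [IsNoetherianRing A] [IsIntegrallyClosed A]

/-- An element of a localization at a prime is a unit fraction. -/
def IsUnitAt (P : Ideal A) (x : FractionRing A) : Prop :=
  ∃ a b : A, a ∉ P ∧ b ∉ P ∧ x * algebraMap A (FractionRing A) b = algebraMap A (FractionRing A) a

/-- The pair of the polynomial `X ^ s - u` with `s` and `u` units. -/
noncomputable def rootPair {R : Type u} [CommRing R] (s : ℕ) (hs : 0 < s) (hsu : IsUnit (s : R)) (u : Rˣ) :
    StandardEtalePair R where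
  f := X ^ s - C (u : R)
  monic_f := monic_X_pow_sub_C _ hs.ne'
  g := 1
  cond := by
    obtain ⟨N, hN⟩ := hsu
    refine ⟨X * C ((↑N⁻¹ : R) * ↑u⁻¹), -C (↑u⁻¹ : R), 0, ?_⟩
    have hN' : (C (s : R) : R[X]) * C (↑N⁻¹ : R) = 1 := by rw [← C_mul, ← hN, Units.mul_inv, C_1]
    have hc' : (C (u : R) : R[X]) * C (↑u⁻¹ : R) = 1 := by rw [← C_mul, Units.mul_inv, C_1]
    obtain ⟨m, rfl⟩ := Nat.exists_eq_add_of_le' hs
    rw [derivative_sub, derivative_C, derivative_X_pow, sub_zero]
    simp only [Nat.add_sub_cancel, C_mul, pow_zero]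
    linear_combination (X : R[X]) ^ (m + 1) * C (↑u⁻¹ : R) * hN' + hc'

/-- The algebra of the pair is finite. -/
theorem finite_rootPair {R : Type u} [CommRing R] (s : ℕ) (hs : 0 < s) (hsu : IsUnit (s : R)) (u : Rˣ) :
    Module.Finite R (rootPair s hs hsu u).Ring := by
  let P := rootPair s hs hsu u
  haveI : Module.Finite R (AdjoinRoot P.f) := Polynomial.Monic.finite_adjoinRoot P.monic_f
  exact Module.Finite.equiv ((P.equivAwayAdjoinRoot.trans
    ((IsLocalization.atUnit (AdjoinRoot P.f) (Localization.Away (AdjoinRoot.mk P.f P.g)) (AdjoinRoot.mk P.f P.g)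
      (by rw [show P.g = 1 from rfl, map_one]; exact isUnit_one)).restrictScalars R).symm).symm.toLinearEquiv)

variable {A}

set_option maxHeartbeats 800000 in
/-- A root of a fraction which is a unit times an `s`-th power at `P` is unramified over `P`. -/
theorem isUnramifiedAt_root (s : ℕ) (hs : 0 < s) (hsu : IsUnit ((s : ℕ) : A)) (g : FractionRing A)
    {L : Type u} [Field L] [Algebra (FractionRing A) L] [Algebra A L] [IsScalarTower A (FractionRing A) L]
    [FiniteDimensional (FractionRing A) L] [Algebra.IsSeparable (FractionRing A) L] (y : L)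
    (hy : y ^ s = algebraMap (FractionRing A) L g) (hgen : Algebra.adjoin (FractionRing A) {y} = ⊤)
    (q : Ideal (integralClosure A L)) [q.IsPrime] (t : FractionRing A) (ht : t ≠ 0)
    (hu : IsUnitAt A (q.under A) (g / t ^ s)) : Algebra.IsUnramifiedAt A q := by
  let K := FractionRing A
  let B := integralClosure A L
  haveI : IsFractionRing B L := integralClosure.isFractionRing_of_finite_extension K L
  let P := q.under A
  haveI : q.LiesOver P := ⟨rfl⟩
  let AP := Localization.AtPrime P
  letI := Localization.AtPrime.algebraOfLiesOver P q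
  let Bq := Localization.AtPrime q
  obtain ⟨a, b, ha, hb, hab⟩ := hu
  let u : APˣ := (IsLocalization.map_units AP (⟨a, ha⟩ : P.primeCompl)).unit *
    ((IsLocalization.map_units AP (⟨b, hb⟩ : P.primeCompl)).unit)⁻¹
  have hsuP : IsUnit ((s : ℕ) : AP) := by simpa using hsu.map (algebraMap A AP)
  let Pr := rootPair s hs hsuP u
  have hle : q.primeCompl ≤ nonZeroDivisors B := q.primeCompl_le_nonZeroDivisors
  let j : Bq →+* L := IsLocalization.map (M := q.primeCompl) (T := nonZeroDivisors B) L (RingHom.id B)
    (fun x hx => hle hx)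
  have hjB : ∀ x : B, j (algebraMap B Bq x) = algebraMap B L x := fun x => by
    show IsLocalization.map _ _ _ (algebraMap B Bq x) = _
    rw [IsLocalization.map_eq]
    rfl
  have hjinj : Function.Injective j := by
    rw [injective_iff_map_eq_zero]
    intro x hx
    obtain ⟨c, d, rfl⟩ := IsLocalization.exists_mk'_eq q.primeCompl x
    have h := congrArg j (IsLocalization.mk'_spec Bq c d)
    rw [map_mul, hx, zero_mul, hjB] at h
    rw [(map_eq_zero_iff _ (IsFractionRing.injective B L)).1 h.symm, IsLocalization.mk'_zero]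
  -- the root in the local ring
  let z : L := y / algebraMap K L t
  have htL : algebraMap K L t ≠ 0 := (_root_.map_ne_zero _).2 ht
  haveI : FaithfulSMul A L := (faithfulSMul_iff_algebraMap_injective A L).2 (by
    rw [IsScalarTower.algebraMap_eq A K L]
    exact (algebraMap K L).injective.comp (IsFractionRing.injective A K))
  have hbK : algebraMap A K b ≠ 0 := (map_ne_zero_iff _ (IsFractionRing.injective A K)).2 fun h => hb (h ▸ zero_mem P)
  have hzs : z ^ s * algebraMap A L b = algebraMap A L a := by
    rw [show algebraMap A L b = algebraMap K L (algebraMap A K b) from IsScalarTower.algebraMap_apply A K L b,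
      show algebraMap A L a = algebraMap K L (algebraMap A K a) from IsScalarTower.algebraMap_apply A K L a,
      show z = y / algebraMap K L t from rfl, div_pow, hy, ← map_pow, ← map_div₀, ← map_mul, hab]
  have hbz : IsIntegral A (algebraMap A L b * z) := by
    refine IsIntegral.of_pow hs ?_
    have : (algebraMap A L b * z) ^ s = algebraMap A L (b ^ (s - 1) * a) := by
      rw [map_mul, map_pow, ← hzs, mul_pow]
      conv_lhs => rw [show s = (s - 1) + 1 from by omega, pow_succ (algebraMap A L b) (s - 1)]
      rw [show (s - 1 + 1) = s from by omega]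
      ring
    rw [this]
    exact isIntegral_algebraMap
  have hbq : algebraMap A B b ∈ q.primeCompl := hb
  let zq : Bq := IsLocalization.mk' Bq (⟨_, hbz⟩ : B) (⟨_, hbq⟩ : q.primeCompl)
  have hjz : j zq = z := by
    show IsLocalization.map _ _ _ (IsLocalization.mk' Bq _ _) = z
    rw [IsLocalization.map_mk']
    refine (IsLocalization.mk'_eq_iff_eq_mul).2 ?_
    show algebraMap A L b * z = z * algebraMap A L b
    ring
  have hjAP : ∀ x : A, j (algebraMap AP Bq (algebraMap A AP x)) = algebraMap A L x := fun x => by
    rw [← IsScalarTower.algebraMap_apply, IsScalarTower.algebraMap_apply A B Bq, hjB]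
    rfl
  have hroot : Pr.HasMap zq := by
    refine ⟨?_, by rw [show Pr.g = 1 from rfl, map_one]; exact isUnit_one⟩
    show aeval zq (X ^ s - C (u : AP)) = 0
    rw [map_sub, map_pow, aeval_X, aeval_C, sub_eq_zero]
    apply hjinj
    rw [map_pow, hjz]
    have hb' : algebraMap AP Bq (u : AP) * algebraMap AP Bq (algebraMap A AP b) =
        algebraMap AP Bq (algebraMap A AP a) := by
      rw [← map_mul]
      congr 1
      show (_ * _ : AP) * _ = _
      rw [mul_assoc, IsUnit.val_inv_mul, mul_one]
      rfl
    have h := congrArg j hb'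
    rw [map_mul, hjAP, hjAP, ← hzs] at h
    exact (mul_right_cancel₀ ((map_ne_zero_iff _ (FaithfulSMul.algebraMap_injective A L)).2
      fun h0 => hb (by rw [h0]; exact zero_mem P)) h).symm
  let φ : Pr.Ring →ₐ[AP] Bq := Pr.lift zq hroot
  letI : Algebra AP L := (j.comp (algebraMap AP Bq)).toAlgebra
  let jA : Bq →ₐ[AP] L := { j with commutes' := fun _ => rfl }
  let C : Subalgebra AP L := (jA.comp φ).range
  haveI := finite_rootPair s hs hsuP u
  haveI : Module.Finite AP C := Module.Finite.of_surjective (jA.comp φ).rangeRestrict.toLinearMap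
    (AlgHom.rangeRestrict_surjective _)
  haveI : Algebra.FormallyUnramified AP C := Algebra.FormallyUnramified.of_surjective (jA.comp φ).rangeRestrict
    (AlgHom.rangeRestrict_surjective _)
  haveI : IsDomain AP := IsLocalization.isDomain_localization P.primeCompl_le_nonZeroDivisors
  haveI : IsIntegrallyClosed AP :=
    isIntegrallyClosed_of_isLocalization _ P.primeCompl P.primeCompl_le_nonZeroDivisors
  have hinjAP : Function.Injective (algebraMap AP C) := by
    intro x₁ x₂ h
    have h' : j (algebraMap AP Bq x₁) = j (algebraMap AP Bq x₂) := congrArg Subtype.val h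
    have h'' := hjinj h'
    obtain ⟨c₁, d₁, rfl⟩ := IsLocalization.exists_mk'_eq P.primeCompl x₁
    obtain ⟨c₂, d₂, rfl⟩ := IsLocalization.exists_mk'_eq P.primeCompl x₂
    refine IsLocalization.mk'_eq_iff_eq.2 ?_
    have key : ∀ (c : A) (d : P.primeCompl),
        j (algebraMap AP Bq (IsLocalization.mk' AP c d)) * algebraMap A L d = algebraMap A L c := fun c d => by
      rw [← hjAP (d : A), ← map_mul j, ← map_mul (algebraMap AP Bq), IsLocalization.mk'_spec, hjAP]
    have h4 : algebraMap A L (d₂ * c₁) = algebraMap A L (d₁ * c₂) := by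
      rw [map_mul, map_mul, ← key c₁ d₁, ← key c₂ d₂, h']
      ring
    exact congrArg (algebraMap A AP) (FaithfulSMul.algebraMap_injective A L h4)
  haveI : IsNoetherianRing AP := IsLocalization.isNoetherianRing P.primeCompl AP inferInstance
  haveI : IsNoetherianRing C := IsNoetherianRing.of_finite AP C
  haveI := GrothLib.FEt21.etale_of_unramified_of_normal hinjAP
  have hzC : z ∈ C := ⟨Pr.X, by show j (φ Pr.X) = z; rw [StandardEtalePair.lift_X, hjz]⟩
  have hAC : ∀ x : A, algebraMap A L x ∈ C := fun x => ⟨algebraMap AP Pr.Ring (algebraMap A AP x), by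
    show j (φ _) = _
    rw [AlgHom.commutes, hjAP]⟩
  have hCclosed : IsIntegrallyClosed C := by
    refine IsIntegrallyClosed.of_localization_maximal fun Q _ hQ => ?_
    let p := Q.under AP
    haveI : Q.LiesOver p := ⟨rfl⟩
    letI := Localization.AtPrime.algebraOfLiesOver p Q
    haveI : IsLocalHom (algebraMap (Localization.AtPrime p) (Localization.AtPrime Q)) :=
      Localization.isLocalHom_localRingHom _ _ _ (Q.over_def p)
    haveI : IsDomain (Localization.AtPrime p) :=
      IsLocalization.isDomain_localization p.primeCompl_le_nonZeroDivisors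
    haveI : IsIntegrallyClosed (Localization.AtPrime p) :=
      isIntegrallyClosed_of_isLocalization _ p.primeCompl p.primeCompl_le_nonZeroDivisors
    haveI : IsNoetherianRing (Localization.AtPrime p) :=
      IsLocalization.isNoetherianRing p.primeCompl _ inferInstance
    haveI : Algebra.EssFiniteType C (Localization.AtPrime Q) := .of_isLocalization _ Q.primeCompl
    haveI : Algebra.EssFiniteType AP (Localization.AtPrime Q) := .comp _ C _
    haveI : Algebra.EssFiniteType (Localization.AtPrime p) (Localization.AtPrime Q) := .of_comp AP _ _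
    haveI : Algebra.FormallyEtale C (Localization.AtPrime Q) :=
      Algebra.FormallyEtale.of_isLocalization Q.primeCompl
    haveI : Algebra.FormallyEtale AP (Localization.AtPrime Q) := Algebra.FormallyEtale.comp AP C _
    haveI : Algebra.FormallyUnramified (Localization.AtPrime p) (Localization.AtPrime Q) :=
      Algebra.FormallyUnramified.of_restrictScalars AP _ _
    haveI : Module.Flat C (Localization.AtPrime Q) := IsLocalization.flat _ Q.primeCompl
    haveI : Module.Flat AP (Localization.AtPrime Q) := Module.Flat.trans AP C _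
    haveI : Module.Flat (Localization.AtPrime p) (Localization.AtPrime Q) :=
      (Module.flat_iff_of_isLocalization (Localization.AtPrime p) p.primeCompl _).2 inferInstance
    exact (GrothLib.EtBasicB.normal_of_normal (Localization.AtPrime p) (Localization.AtPrime Q)).2
  have hfrac : ∀ l : L, ∃ w : C, (w : L) ≠ 0 ∧ l * w ∈ C := by
    intro l
    have hl : l ∈ Algebra.adjoin K {y} := hgen ▸ Algebra.mem_top
    induction hl using Algebra.adjoin_induction with
    | mem x hx =>
      rw [Set.mem_singleton_iff.1 hx]
      obtain ⟨c, d, hd, hcd⟩ := IsFractionRing.div_surjective (A := A) t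
      refine ⟨⟨_, hAC d⟩, (map_ne_zero_iff _ (FaithfulSMul.algebraMap_injective A L)).2 (nonZeroDivisors.ne_zero hd), ?_⟩
      show y * algebraMap A L d ∈ C
      have hdK : algebraMap A K d ≠ 0 := IsFractionRing.to_map_ne_zero_of_mem_nonZeroDivisors hd
      have : y * algebraMap A L d = z * algebraMap A L c := by
        rw [IsScalarTower.algebraMap_apply A K L d, IsScalarTower.algebraMap_apply A K L c,
          show algebraMap A K c = t * algebraMap A K d by rw [← hcd, div_mul_cancel₀ _ hdK], map_mul,
          show z = y / algebraMap K L t from rfl, ← mul_assoc, div_mul_cancel₀ _ htL]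
      rw [this]
      exact mul_mem hzC (hAC c)
    | algebraMap k =>
      obtain ⟨c, d, hd, rfl⟩ := IsFractionRing.div_surjective (A := A) k
      refine ⟨⟨_, hAC d⟩, (map_ne_zero_iff _ (FaithfulSMul.algebraMap_injective A L)).2 (nonZeroDivisors.ne_zero hd), ?_⟩
      show algebraMap K L _ * algebraMap A L d ∈ C
      rw [IsScalarTower.algebraMap_apply A K L d, ← map_mul,
        div_mul_cancel₀ _ (IsFractionRing.to_map_ne_zero_of_mem_nonZeroDivisors hd), ← IsScalarTower.algebraMap_apply]
      exact hAC c
    | add x₁ x₂ _ _ h₁ h₂ =>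
      obtain ⟨w₁, hw₁, hm₁⟩ := h₁
      obtain ⟨w₂, hw₂, hm₂⟩ := h₂
      refine ⟨w₁ * w₂, mul_ne_zero hw₁ hw₂, ?_⟩
      show (x₁ + x₂) * ((w₁ : L) * w₂) ∈ C
      rw [show (x₁ + x₂) * ((w₁ : L) * w₂) = (x₁ * w₁) * w₂ + (x₂ * w₂) * w₁ by ring]
      exact add_mem (mul_mem hm₁ w₂.2) (mul_mem hm₂ w₁.2)
    | mul x₁ x₂ _ _ h₁ h₂ =>
      obtain ⟨w₁, hw₁, hm₁⟩ := h₁
      obtain ⟨w₂, hw₂, hm₂⟩ := h₂
      refine ⟨w₁ * w₂, mul_ne_zero hw₁ hw₂, ?_⟩
      show (x₁ * x₂) * ((w₁ : L) * w₂) ∈ C
      rw [show (x₁ * x₂) * ((w₁ : L) * w₂) = (x₁ * w₁) * (x₂ * w₂) by ring]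
      exact mul_mem hm₁ hm₂
  haveI : IsFractionRing C L := IsFractionRing.of_field C L fun l => by
    obtain ⟨w, hw, hm⟩ := hfrac l
    exact ⟨⟨_, hm⟩, w, by show l = (l * w) / w; rw [mul_div_cancel_right₀ _ hw]⟩
  have hBC : ∀ x : B, algebraMap B L x ∈ C := fun x => by
    haveI : IsScalarTower A AP L := IsScalarTower.of_algebraMap_eq fun r => (hjAP r).symm
    have hxA : IsIntegral A (algebraMap B L x) := x.2
    have hx : IsIntegral C (algebraMap B L x) := (hxA.tower_top (A := AP)).tower_top
    obtain ⟨c, hc⟩ := (IsIntegrallyClosed.isIntegral_iff (K := L)).1 hx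
    exact hc ▸ c.2
  -- formally unramified over `Pr.Ring`
  haveI : Algebra.FormallyUnramified AP Bq := by
    rw [Algebra.FormallyUnramified.iff_comp_injective]
    intro T _ _ I hI g₁ g₂ hg
    have hφ : g₁.comp φ = g₂.comp φ := by
      refine Algebra.FormallyUnramified.comp_injective (R := AP) (A := Pr.Ring) I hI ?_
      rw [← AlgHom.comp_assoc, ← AlgHom.comp_assoc, hg]
    have hB : ∀ x : B, g₁ (algebraMap B Bq x) = g₂ (algebraMap B Bq x) := fun x => by
      obtain ⟨r, hr⟩ := hBC x
      rw [show algebraMap B Bq x = φ r from hjinj ((hjB x).trans hr.symm)]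
      exact DFunLike.congr_fun hφ r
    exact AlgHom.coe_ringHom_injective (IsLocalization.ringHom_ext q.primeCompl (RingHom.ext hB))
  haveI : Algebra.FormallyUnramified A AP := Algebra.FormallyUnramified.of_isLocalization P.primeCompl
  exact Algebra.FormallyUnramified.comp A AP Bq

/-- Over a normal local ring whose finite extensions ramify in codimension at most one, a fraction which is
everywhere in codimension one a unit times an `s`-th power is a unit times an `s`-th power. -/
theorem exists_root [IsLocalRing A] (hhull : EGA4.HeightOneHullFinite A)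
    (hram : ∀ (B : Type u) [CommRing B] [IsDomain B] [IsIntegrallyClosed B] [Algebra A B] [Module.Finite A B],
      Function.Injective (algebraMap A B) → ∀ (q : Ideal B) [q.IsPrime], ¬ Algebra.IsUnramifiedAt A q →
        (∀ (q' : Ideal B) [q'.IsPrime], q' ≤ q → ¬ Algebra.IsUnramifiedAt A q' → q' = q) → q.height < 2)
    (s : ℕ) (hs : 0 < s) (hsu : IsUnit ((s : ℕ) : A)) (g : FractionRing A) (hg : g ≠ 0)
    (hloc : ∀ (P : Ideal A) [P.IsPrime], P.height = 1 →
      ∃ t : FractionRing A, t ≠ 0 ∧ IsUnitAt A P (g / t ^ s)) :
    ∃ (a : FractionRing A) (ε : Aˣ), a ≠ 0 ∧ g = algebraMap A (FractionRing A) (ε : A) * a ^ s := by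
  classical
  let K := FractionRing A
  haveI : NeZero ((s : ℕ) : K) := ⟨fun h => by
    have := hsu.map (algebraMap A K)
    rw [map_natCast, h] at this
    exact not_isUnit_zero this⟩
  haveI : NeZero ((s : ℕ) : SeparableClosure K) := ⟨fun h => NeZero.ne ((s : ℕ) : K) (by
    rw [← map_natCast (algebraMap K (SeparableClosure K))] at h
    exact (map_eq_zero _).1 h)⟩
  obtain ⟨y, hy⟩ := IsSepClosed.exists_pow_nat_eq (algebraMap K (SeparableClosure K) g) s
  let L := IntermediateField.adjoin K ({y} : Set (SeparableClosure K))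
  have hyint : IsIntegral K y := Algebra.IsIntegral.isIntegral y
  haveI : FiniteDimensional K L := IntermediateField.adjoin.finiteDimensional hyint
  haveI : Algebra.IsSeparable K L := inferInstance
  let yL : L := ⟨y, IntermediateField.mem_adjoin_simple_self K y⟩
  have hyL : yL ^ s = algebraMap K L g := Subtype.ext hy
  have hgen : Algebra.adjoin K {yL} = ⊤ := by
    rw [eq_top_iff]
    rintro ⟨l, hl⟩ -
    have hl' : l ∈ Algebra.adjoin K ({y} : Set (SeparableClosure K)) := by
      rw [← IntermediateField.adjoin_simple_toSubalgebra_of_isAlgebraic hyint.isAlgebraic]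
      exact hl
    obtain ⟨p, rfl⟩ := (Algebra.adjoin_singleton_eq_range_aeval K y ▸ hl' : l ∈ (aeval y).range)
    rw [Algebra.adjoin_singleton_eq_range_aeval]
    refine ⟨p, Subtype.ext ?_⟩
    show L.val (aeval yL p) = aeval y p
    rw [← aeval_algHom_apply]
    rfl
  let B := integralClosure A L
  haveI : Module.Finite A B := IsIntegralClosure.finite A K L B
  haveI : IsNoetherianRing B := IsNoetherianRing.of_finite A B
  haveI : IsIntegrallyClosed B := integralClosure.isIntegrallyClosedOfFiniteExtension K
  haveI : IsFractionRing B L := integralClosure.isFractionRing_of_finite_extension K L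
  haveI : FaithfulSMul A L := (faithfulSMul_iff_algebraMap_injective A L).2 (by
    rw [IsScalarTower.algebraMap_eq A K L]
    exact (algebraMap K L).injective.comp (IsFractionRing.injective A K))
  have hAL : Function.Injective (algebraMap A L) := FaithfulSMul.algebraMap_injective A L
  have hinj : Function.Injective (algebraMap A B) := fun a b h => hAL (congrArg Subtype.val h)
  haveI : FaithfulSMul A B := (faithfulSMul_iff_algebraMap_injective A B).2 hinj
  have hy0 : yL ≠ 0 := fun h0 => hg ((map_eq_zero (algebraMap K L)).1 (by rw [← hyL, h0, zero_pow hs.ne']))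
  -- unramified everywhere
  have hunr : ∀ (q : Ideal B) [q.IsPrime], Algebra.IsUnramifiedAt A q := by
    intro q _
    by_contra hq
    let S : Set (PrimeSpectrum B) := {x | x.asIdeal ≤ q ∧ ¬ Algebra.IsUnramifiedAt A x.asIdeal}
    obtain ⟨m, ⟨hmq, hm⟩, hmin⟩ := (InvImage.wf (fun x : PrimeSpectrum B => x.asIdeal.height) (wellFounded_lt (α := ℕ∞))).has_min S
      ⟨⟨q, inferInstance⟩, le_rfl, hq⟩
    have hlt := hram B hinj m.asIdeal hm fun q' _ hle hq' => by
      by_contra hne
      exact hmin ⟨q', inferInstance⟩ ⟨hle.trans hmq, hq'⟩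
        (Ideal.height_strict_mono_of_isPrime (lt_of_le_of_ne hle hne))
    rcases eq_or_ne m.asIdeal ⊥ with h0 | h0
    · refine hm (isUnramifiedAt_root s hs hsu g yL hyL hgen m.asIdeal 1 one_ne_zero ?_)
      obtain ⟨c, d, hd, hcd⟩ := IsFractionRing.div_surjective (A := A) g
      have hbot : m.asIdeal.under A = ⊥ := by
        rw [h0]
        exact Ideal.comap_bot_of_injective _ hinj
      rw [hbot]
      refine ⟨c, d, fun h => hg ?_, fun h => nonZeroDivisors.ne_zero hd (by simpa using h), ?_⟩
      · rw [Ideal.mem_bot] at h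
        rw [← hcd, h, map_zero, zero_div]
      · rw [one_pow, div_one, ← hcd, div_mul_cancel₀ _ (IsFractionRing.to_map_ne_zero_of_mem_nonZeroDivisors hd)]
    · have h1 : m.asIdeal.height = 1 := by
        refine le_antisymm (Order.le_of_lt_add_one (hlt.trans_eq (by norm_num))) ?_
        exact GrothLib.HeightOneHull5.one_le_height h0
      obtain ⟨t, ht, hu⟩ := hloc _ (GrothLib.HeightOneHull5.height_comap_eq_one hhull m.asIdeal h1)
      exact hm (isUnramifiedAt_root s hs hsu g yL hyL hgen m.asIdeal t ht hu)
  haveI : Algebra.FormallyUnramified A B :=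
    Algebra.formallyUnramified_iff_forall.2 fun x => hunr x.asIdeal
  haveI := GrothLib.FEt21.etale_of_unramified_of_normal hinj
  haveI : Module.Free A B := Module.free_of_flat_of_isLocalRing
  let ι := Module.Free.ChooseBasisIndex A B
  let bs := Module.Free.chooseBasis A B
  haveI : Fintype ι := inferInstance
  -- coordinates of the root
  obtain ⟨⟨β, d, hd⟩, hβ⟩ := IsLocalization.surj (Algebra.algebraMapSubmonoid B (nonZeroDivisors A)) yL
  obtain ⟨d₀, hd₀, rfl⟩ := hd
  have hd₀K : algebraMap A K d₀ ≠ 0 := IsFractionRing.to_map_ne_zero_of_mem_nonZeroDivisors hd₀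
  let co : ι → K := fun i => algebraMap A K (bs.repr β i) / algebraMap A K d₀
  have hexp : ∑ i, algebraMap K L (co i) * algebraMap B L (bs i) = yL := by
    have hne : algebraMap A L d₀ ≠ 0 := (map_ne_zero_iff _ hAL).2 (nonZeroDivisors.ne_zero hd₀)
    refine mul_right_cancel₀ hne ?_
    have hβ' : yL * algebraMap A L d₀ = algebraMap B L β := hβ
    rw [hβ', Finset.sum_mul]
    conv_rhs => rw [← bs.sum_repr β, map_sum]
    refine Finset.sum_congr rfl fun i _ => ?_
    rw [Algebra.smul_def, map_mul, ← IsScalarTower.algebraMap_apply A B L,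
      IsScalarTower.algebraMap_apply A K L d₀, IsScalarTower.algebraMap_apply A K L (bs.repr β i), mul_right_comm,
      ← map_mul, div_mul_cancel₀ _ hd₀K]
  have hAI : ∀ i, co i ^ s / g ∈ Set.range (algebraMap A K) := by
    intro i
    refine GrothLib.NormalSerre.mem_range_of_forall_height_one _ fun P _ hP => ?_
    obtain ⟨t, ht, a, b, ha, hb, hab⟩ := hloc P hP
    have hb0 : algebraMap A L b ≠ 0 := (map_ne_zero_iff _ hAL).2 fun h => hb (h ▸ zero_mem P)
    have hbK : algebraMap A K b ≠ 0 := (map_ne_zero_iff _ (IsFractionRing.injective A K)).2 fun h => hb (h ▸ zero_mem P)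
    have htL : algebraMap K L t ≠ 0 := (_root_.map_ne_zero _).2 ht
    have hz : IsIntegral A (algebraMap A L b * (yL / algebraMap K L t)) := by
      refine IsIntegral.of_pow hs ?_
      have h : (algebraMap A L b * (yL / algebraMap K L t)) ^ s = algebraMap A L (b ^ (s - 1) * a) := by
        rw [mul_pow, div_pow, hyL, ← map_pow, ← map_pow, ← map_div₀, IsScalarTower.algebraMap_apply A K L (b ^ s),
          IsScalarTower.algebraMap_apply A K L (b ^ (s - 1) * a), ← map_mul]
        congr 1
        rw [map_mul, ← hab, map_pow, map_pow]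
        conv_lhs => rw [show s = (s - 1) + 1 from by omega, pow_succ]
        rw [show (s - 1 + 1) = s from by omega]
        ring
      rw [h]
      exact isIntegral_algebraMap
    obtain ⟨c, hc⟩ : ∃ c : A, co i * algebraMap A K b = t * algebraMap A K c := by
      refine ⟨bs.repr ⟨_, hz⟩ i, ?_⟩
      have h1 : ∀ j, co j * algebraMap A K b = t * algebraMap A K (bs.repr ⟨_, hz⟩ j) := by
        have hsum : ∑ j, algebraMap K L (co j * algebraMap A K b - t * algebraMap A K (bs.repr ⟨_, hz⟩ j)) *
            algebraMap B L (bs j) = 0 := by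
          simp only [map_sub, map_mul, sub_mul, Finset.sum_sub_distrib]
          rw [sub_eq_zero]
          calc ∑ j, algebraMap K L (co j) * algebraMap K L (algebraMap A K b) * algebraMap B L (bs j)
              = yL * algebraMap A L b := by
                rw [← hexp, Finset.sum_mul]
                exact Finset.sum_congr rfl fun j _ => by rw [← IsScalarTower.algebraMap_apply A K L]; ring
            _ = algebraMap K L t * algebraMap B L ⟨_, hz⟩ := by
                show _ = algebraMap K L t * (algebraMap A L b * (yL / algebraMap K L t))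
                rw [mul_left_comm, mul_div_cancel₀ _ htL, mul_comm]
            _ = _ := by
                conv_lhs => rw [← bs.sum_repr ⟨_, hz⟩, map_sum, Finset.mul_sum]
                refine Finset.sum_congr rfl fun j _ => ?_
                rw [Algebra.smul_def, map_mul, ← IsScalarTower.algebraMap_apply A B L,
                  ← IsScalarTower.algebraMap_apply A K L, mul_assoc]
        have hli : LinearIndependent K (fun j => algebraMap B L (bs j)) := by
          have h0 : LinearIndependent A (fun j => algebraMap B L (bs j)) :=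
            bs.linearIndependent.map' (IsScalarTower.toAlgHom A B L).toLinearMap
              (LinearMap.ker_eq_bot.2 (IsFractionRing.injective B L))
          exact h0.localization K (nonZeroDivisors A)
        intro j
        refine sub_eq_zero.1 (Fintype.linearIndependent_iff.1 hli
          (fun j => co j * algebraMap A K b - t * algebraMap A K (bs.repr ⟨_, hz⟩ j)) ?_ j)
        simpa [Algebra.smul_def] using hsum
      exact h1 i
    refine ⟨c ^ s, b ^ (s - 1) * a, fun h => ?_, ?_⟩
    · rcases (inferInstance : P.IsPrime).mem_or_mem h with h | h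
      · exact hb ((inferInstance : P.IsPrime).mem_of_pow_mem _ h)
      · exact ha h
    · rw [map_pow, map_mul, ← hab, map_pow]
      have hts : t ^ s ≠ 0 := pow_ne_zero _ ht
      field_simp
      have h1 : (co i * algebraMap A K b) ^ s = (t * algebraMap A K c) ^ s := by rw [hc]
      rw [mul_pow, mul_pow] at h1
      conv at h1 => lhs; rw [show s = (s - 1) + 1 from by omega, pow_succ (algebraMap A K b)]
      rw [show (s - 1 + 1) = s from by omega] at h1
      linear_combination -h1
  choose e he using hAI
  have hint : ∀ i, IsIntegral A (algebraMap K L (co i) / yL) := fun i => by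
    refine IsIntegral.of_pow hs ?_
    rw [div_pow, hyL, ← map_pow, ← map_div₀, ← he i, ← IsScalarTower.algebraMap_apply]
    exact isIntegral_algebraMap
  obtain ⟨Q, hQ⟩ := Ideal.exists_maximal B
  obtain ⟨i, hi⟩ : ∃ i, (⟨_, hint i⟩ : B) ∉ Q := by
    by_contra hall
    push Not at hall
    have h1 : (1 : B) = ∑ i, (⟨_, hint i⟩ : B) * bs i := by
      apply IsFractionRing.injective B L
      rw [map_one, map_sum]
      simp only [map_mul]
      show 1 = ∑ i, algebraMap K L (co i) / yL * algebraMap B L (bs i)
      rw [← mul_inv_cancel₀ hy0]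
      nth_rw 1 [← hexp]
      rw [Finset.sum_mul]
      exact Finset.sum_congr rfl fun j _ => by rw [div_eq_mul_inv]; ring
    exact hQ.ne_top (Q.eq_top_iff_one.2 (h1 ▸ Q.sum_mem fun j _ => Q.mul_mem_right _ (hall j)))
  haveI := hQ
  have hQA : Q.comap (algebraMap A B) = IsLocalRing.maximalIdeal A :=
    IsLocalRing.eq_maximalIdeal (Ideal.isMaximal_comap_of_isIntegral_of_isMaximal Q)
  have hei : IsUnit (e i) := by
    by_contra hne
    refine hi (hQ.isPrime.mem_of_pow_mem s ?_)
    have h : (⟨_, hint i⟩ : B) ^ s = algebraMap A B (e i) := by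
      apply Subtype.ext
      show (algebraMap K L (co i) / yL) ^ s = algebraMap A L (e i)
      rw [div_pow, hyL, ← map_pow, ← map_div₀, ← he i, ← IsScalarTower.algebraMap_apply]
    rw [h]
    exact hQA.ge ((IsLocalRing.mem_maximalIdeal _).2 hne)
  have hco : co i ≠ 0 := fun h0 => by
    have h := he i
    rw [h0, zero_pow hs.ne', zero_div] at h
    exact hei.ne_zero ((map_eq_zero_iff _ (IsFractionRing.injective A K)).1 h)
  refine ⟨co i, hei.unit⁻¹, hco, ?_⟩
  have h := he i
  have hinv : algebraMap A K (↑hei.unit⁻¹ : A) * algebraMap A K (e i) = 1 := by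
    rw [← map_mul, IsUnit.val_inv_mul, map_one]
  calc g = algebraMap A K (↑hei.unit⁻¹ : A) * algebraMap A K (e i) * g := by rw [hinv, one_mul]
    _ = _ := by rw [h, mul_assoc, div_mul_cancel₀ _ hg]

end GrothLib.ClTors21
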