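import Groth.Prelude.Def_Ref1Cl
import Groth.Agent.ClTors21.Core
import Groth.Agent.Lib.Ref1.Unit
import Groth.Agent.Lib.WDivAff.Order
import Groth.Agent.Lib.FEt21.HomCover

/-!
# Torsion classes of rank one reflexive modules over a normal local ring
-/

set_option autoImplicit false
set_option linter.style.haveILetI false
set_option backward.isDefEq.respectTransparency.types false

universe u

open CategoryTheory AlgebraicGeometry GrothLib.Ref1

namespace GrothLib.ClTors21

/-- Multiples of the divisor of a class are divisors of the powers. -/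
theorem exists_secOrd_pow {X : Scheme.{u}} [IsIntegral X] [IsLocallyNoetherian X] (hX : Pi1.IsNormalScheme X)
    [RefFun.Law X] {F : X.Modules} (hF : RefHull.IsRef1 F) {v : F.presheaf.stalk (genericPoint X)} (hv : v ≠ 0) :
    ∀ n : ℕ, ∃ (G : X.Modules) (hG : RefHull.IsRef1 G) (w : G.presheaf.stalk (genericPoint X)),
      w ≠ 0 ∧ RefFun.cls F hF ^ n = RefFun.cls G hG ∧
        ∀ x : X, Order.coheight x = 1 → secOrd G w x = n * secOrd F v x
  | 0 => by
    refine ⟨_, isRef1_structureModule, HomSh.unitStalk (genericPoint X) 1, (gen_unitStalk _).ne_zero, ?_,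
      fun x hx => ?_⟩
    · rw [pow_zero, eq_comm, RefFun.cls_eq_one_iff]
      exact ⟨Iso.refl _⟩
    · rw [secOrd_unit hx]
      simp
  | n + 1 => by
    obtain ⟨G, hG, w, hw, he, h⟩ := exists_secOrd_pow hX hF hv n
    refine ⟨RefHull.ddual (CohB1.tensorMod G F), isRef1_refTensor hG hF, refMul G F w v,
      refMul_ne_zero hG hF hw hv, ?_, fun x hx => ?_⟩
    · rw [pow_succ, he]
      apply Subtype.ext
      rw [RefFun.cls_mul_cls_val]
      rfl
    · rw [secOrd_refMul hX hG hF hw hv hx, h x hx]
      push_cast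
      ring

/-- A class killed by `s` is trivial, granted that roots exist. -/
theorem eq_one_of_pow_eq_one {A : Type u} [CommRing A] [IsDomain A] [IsNoetherianRing A] [IsIntegrallyClosed A]
    [RefFun.Law (Spec (CommRingCat.of A))] (s : ℕ) (hs : 0 < s)
    (hroot : ∀ g : FractionRing A, g ≠ 0 →
      (∀ (P : Ideal A) [P.IsPrime], P.height = 1 → ∃ t : FractionRing A, t ≠ 0 ∧ IsUnitAt A P (g / t ^ s)) →
      ∃ (a : FractionRing A) (ε : Aˣ), a ≠ 0 ∧ g = algebraMap A (FractionRing A) (ε : A) * a ^ s)
    (c : RefFun.Ref1Set (Spec (CommRingCat.of A))) (hc : c ^ s = 1) : c = 1 := by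
  classical
  let X := Spec (CommRingCat.of A)
  have hX : Pi1.IsNormalScheme X := fun x => by
    haveI : IsIntegrallyClosed (Localization.AtPrime x.asIdeal) :=
      isIntegrallyClosed_of_isLocalization _ x.asIdeal.primeCompl x.asIdeal.primeCompl_le_nonZeroDivisors
    exact ⟨inferInstance, IsIntegrallyClosed.of_equiv
      (IsLocalization.algEquiv x.asIdeal.primeCompl (Localization.AtPrime x.asIdeal)
        ((Spec.structureSheaf A).presheaf.stalk x)).toRingEquiv⟩
  obtain ⟨F, hF, rfl⟩ := RefFun.exists_eq_cls c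
  obtain ⟨v, hv⟩ := exists_ne_zero_of_isRef1 hF
  obtain ⟨G, hG, w, hw, he, hGord⟩ := exists_secOrd_pow hX hF hv s
  rw [hc, eq_comm, RefFun.cls_eq_one_iff] at he
  have hu : (HomSh.unitStalk (genericPoint X) 1) ≠ 0 := (gen_unitStalk (X := X) _).ne_zero
  obtain ⟨f, hf, hford⟩ := (nonempty_iso_iff hX hG isRef1_structureModule hw hu).1 he
  letI : Algebra A X.functionField := StructureSheaf.stalkAlgebra A (genericPoint X)
  haveI : IsFractionRing A X.functionField := functionField_isFractionRing_of_affine (CommRingCat.of A)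
  let ψ : FractionRing A ≃ₐ[A] X.functionField := IsLocalization.algEquiv (nonZeroDivisors A) _ _
  have hsp : ∀ (x : X) (a : A), (spR (hη x) (StructureSheaf.toStalk A x a) : X.functionField) =
      algebraMap A X.functionField a := fun x a =>
    DFunLike.congr_fun (congrArg CommRingCat.Hom.hom (StructureSheaf.toStalk_stalkSpecializes (hη x))) a
  have hunit : ∀ (x : X) (ε : Aˣ), Scheme.ord (algebraMap A X.functionField (ε : A)) x = 0 := fun x ε => by
    rw [← hsp x]
    exact ord_spR_of_isUnit (ε.isUnit.map _)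
  have hG' : ∀ x : X, Order.coheight x = 1 → (s : ℤ) * secOrd F v x = Scheme.ord f x := fun x hx => by
    have := hford x hx
    rw [secOrd_unit hx, hGord x hx, zero_add] at this
    exact this
  obtain ⟨a, ε, ha, hae⟩ := hroot (ψ.symm f) (by simpa using hf) fun P _ hP => by
    let x : X := ⟨P, inferInstance⟩
    letI : Algebra A (X.presheaf.stalk x) := StructureSheaf.stalkAlgebra A x
    haveI : IsLocalization.AtPrime (X.presheaf.stalk x) P := StructureSheaf.IsLocalization.to_stalk A x
    have hd : ringKrullDim (X.presheaf.stalk x) = 1 := by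
      rw [IsLocalization.AtPrime.ringKrullDim_eq_height P (X.presheaf.stalk x), hP]
      rfl
    have hx := coheight_of_dim_one hd
    haveI := isDiscreteValuationRing_of_dim_one hX hd
    obtain ⟨ϖ, hϖ⟩ := IsDiscreteValuationRing.exists_irreducible (X.presheaf.stalk x)
    have hord : Scheme.ord (spR (hη x) ϖ : X.functionField) x = 1 :=
      WDivAff.ordg_spR_eq_one hx hϖ.ne_zero hϖ.maximalIdeal_eq
    have h0 : (spR (hη x) ϖ : X.functionField) ≠ 0 := (isUnit_spR hϖ.ne_zero).ne_zero
    let τ : X.functionField := (spR (hη x) ϖ : X.functionField) ^ secOrd F v x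
    have hτ : τ ≠ 0 := zpow_ne_zero _ h0
    have hone : Scheme.ord (1 : X.functionField) x = 0 := by simpa using hunit x 1
    have hτord : ∀ k : ℤ, Scheme.ord ((spR (hη x) ϖ : X.functionField) ^ k) x = k := fun k => by
      induction k using Int.induction_on with
      | zero => rw [zpow_zero, hone]
      | succ k ih => rw [zpow_add_one₀ h0, Scheme.ord_mul (zpow_ne_zero _ h0) h0, ih, hord]
      | pred k ih =>
        have h := Scheme.ord_mul (x := x) (zpow_ne_zero (-(k : ℤ) - 1) h0) h0
        rw [← zpow_add_one₀ h0, sub_add_cancel, ih, hord] at h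
        linarith
    have hfτ : Scheme.ord (f / τ ^ s) x = 0 := by
      have h := Scheme.ord_mul (x := x) (div_ne_zero hf (pow_ne_zero s hτ)) (pow_ne_zero s hτ)
      rw [div_mul_cancel₀ _ (pow_ne_zero s hτ), ← hG' x hx, ← zpow_natCast τ s, ← zpow_mul, hτord] at h
      rw [← zpow_natCast τ s, ← zpow_mul]
      linarith
    obtain ⟨u, hu, hue⟩ := exists_unit_of_ord_eq_zero hX hx
      (φ := (f / τ ^ s : X.functionField)) (div_ne_zero hf (pow_ne_zero s hτ)) hfτ
    obtain ⟨a, b, rfl⟩ := IsLocalization.exists_mk'_eq P.primeCompl u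
    have ha : a ∉ P := (IsLocalization.AtPrime.isUnit_mk'_iff (X.presheaf.stalk x) P a b).1 hu
    refine ⟨ψ.symm τ, by simpa using hτ, a, b, ha, b.2, ψ.injective ?_⟩
    rw [map_mul, map_div₀, map_pow, AlgEquiv.apply_symm_apply, AlgEquiv.apply_symm_apply, AlgEquiv.commutes,
      AlgEquiv.commutes, ← hue, ← hsp x a, ← hsp x b, ← map_mul]
    exact congrArg (spR (hη x)) (IsLocalization.mk'_spec (X.presheaf.stalk x) a b)
  rw [RefFun.cls_eq_one_iff]
  have haψ : ψ a ≠ 0 := by simpa using ha
  refine (nonempty_iso_iff hX hF isRef1_structureModule hv hu).2 ⟨ψ a, haψ, fun x hx => ?_⟩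
  have hf' : f = algebraMap A X.functionField (ε : A) * ψ a ^ s := by
    rw [← AlgEquiv.apply_symm_apply ψ f, hae, map_mul, map_pow, AlgEquiv.commutes]
  have hpow : ∀ n : ℕ, Scheme.ord (ψ a ^ n) x = n * Scheme.ord (ψ a) x := fun n => by
    induction n with
    | zero => rw [pow_zero]; simpa using hunit x 1
    | succ n ih =>
      rw [pow_succ, Scheme.ord_mul (pow_ne_zero _ haψ) haψ, ih]
      push_cast
      ring
  have h := hG' x hx
  rw [hf', Scheme.ord_mul ((map_ne_zero_iff _ (IsFractionRing.injective A X.functionField)).2 ε.ne_zero)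
    (pow_ne_zero _ haψ), hunit, zero_add, hpow] at h
  rw [secOrd_unit hx, zero_add]
  exact mul_left_cancel₀ (by exact_mod_cast hs.ne') h

end GrothLib.ClTors21
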